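import Cfsg.Agent.H59.PQ.Chev
import Cfsg.Prelude.Def_LieTypeChar

/-!
# S4981: the exceptional Chevalley groups in defining characteristic

`row_chev_def` : `SFact p q G` for the groups of type `G₂`, `F₄`, `E₆`, `E₇`, `E₈` over a field of characteristic `p`; the cases
`F₄`, `E₆` with `p = 2` (graph automorphisms of order `2`) are hypotheses.
-/

set_option autoImplicit false

namespace Cfsg.Agent.H59.PQ.ChevRow

open Subgroup Cfsg Cfsg.Lie Cfsg.Agent Cfsg.Agent.H54.PQ Cfsg.Agent.H59.PQ.Chev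
open Cfsg.Agent.H967.FaChev (pow_dvd_of prime_dvd_of dvd_of_mul)

universe u

/-- `c` bounds the diagonal and graph part -/
theorem core_of_card {D : ChevalleyDatum} (hD : ChevalleyStructure.Elts.InList D) {F : Type u} [Field F] [Fintype F]
    {p q : ℕ} [Fact p.Prime] [CharP F p] {n c : ℕ} (hn : 1 ≤ n) (hF : Fintype.card F = p ^ n)
    (hs : Group.IsSolvable (Cfsg.Out ↥(D.group F))) (h2 : 2 ∣ Nat.card ↥(D.group F))
    (hout : Nat.card (Cfsg.Out ↥(D.group F)) = c * n) (hpc : ¬ p ∣ c)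
    (hqc : q.Prime → q ∣ c → q ∣ Nat.card ↥(D.group F)) : SFact p q ↥(D.group F) := by
  have hc : Nat.card (F ≃+* F) = n := Cfsg.Agent.Lib.FieldAutCard.card_ringAut hn hF
  refine chev_core hD h2 hs ?_ ?_
  · intro k hk
    rw [hout] at hk
    rw [hc]
    exact (Nat.Coprime.pow_left k (((Fact.out : p.Prime).coprime_iff_not_dvd).2 hpc)).dvd_of_dvd_mul_left hk
  · intro k hqp hqS hk
    rw [hout] at hk
    rw [hc]
    have hq : ¬ q ∣ c := fun h => hqS (hqc hqp h)
    exact (Nat.Coprime.pow_left k ((hqp.coprime_iff_not_dvd).2 hq)).dvd_of_dvd_mul_left hk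

section

variable {F : Type} [Field F] [Fintype F] {p q : ℕ} [Fact p.Prime] [CharP F p]

theorem def_g2 (h3 : 3 ≤ Fintype.card F) : SFact p q ↥(chevG2.group F) := by
  obtain ⟨n, hp, hF⟩ := FiniteField.card F p
  have hsimple : IsSimpleGroup ↥(chevG2.group F) := by
    refine (S1055.result ?_).1
    classical
    by_contra hcon
    push Not at hcon
    have h4 : Fintype.card F ≤ 2 := by
      have h5 : (Finset.univ : Finset F) ⊆ {0, 1} := fun a _ => by
        by_cases h6 : a = 0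
        · simp [h6]
        · simp [hcon a h6]
      calc Fintype.card F = (Finset.univ : Finset F).card := rfl
        _ ≤ ({0, 1} : Finset F).card := Finset.card_le_card h5
        _ ≤ 2 := Finset.card_le_two
    omega
  have hcard := S1059.result (F := F) (q := p ^ (n : ℕ)) hF
  have hq0 : 0 < p ^ (n : ℕ) := pow_pos hp.pos _
  have h2 : 2 ∣ Nat.card ↥(chevG2.group F) := by
    rw [hcard]
    exact (prime_dvd_of Nat.prime_two hq0 (by norm_num) (by norm_num)).mul_right _
  refine core_of_card (by simp) n.pos hF (H254.isSolvable_out_of_sch (Schreier.Chev.sch_g2 F)) h2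
    (c := if p = 3 then 2 else 1) ?_ ?_ ?_
  · rw [S2121.result p n hF (by rw [← hF]; exact h3)]
    split_ifs
    · rfl
    · rw [one_mul]
  · split_ifs with h
    · rw [h]; norm_num
    · exact fun h' => hp.one_lt.ne' (Nat.dvd_one.1 h')
  · intro hq h
    split_ifs at h
    · rw [(Nat.prime_dvd_prime_iff_eq hq Nat.prime_two).1 h]; exact h2
    · exact absurd (Nat.dvd_one.1 h) hq.one_lt.ne'

theorem def_f4 (hp2 : p ≠ 2) : SFact p q ↥(chevF4.group F) := by
  obtain ⟨n, hp, hF⟩ := FiniteField.card F p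
  have hsimple : IsSimpleGroup ↥(chevF4.group F) := (S1054.result chevF4 (by simp)).1
  have hcard := S1062.result (F := F) (q := p ^ (n : ℕ)) hF
  have hq0 : 0 < p ^ (n : ℕ) := pow_pos hp.pos _
  have h2 : 2 ∣ Nat.card ↥(chevF4.group F) := by
    rw [hcard]
    exact ((prime_dvd_of Nat.prime_two hq0 (by norm_num) (by norm_num)).mul_right _).mul_right _ |>.mul_right _
  have h1 : Nat.gcd 2 p = 1 := (Nat.coprime_primes Nat.prime_two hp).2 (Ne.symm hp2)
  refine core_of_card (by simp) n.pos hF (H254.isSolvable_out_of_sch (Schreier.Chev.sch_f4 F)) h2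
    (c := 1) ?_ ?_ ?_
  · rw [S2122.result p n hF, h1]
  · exact fun h' => hp.one_lt.ne' (Nat.dvd_one.1 h')
  · intro hq h
    exact absurd (Nat.dvd_one.1 h) hq.one_lt.ne'

theorem def_e8 : SFact p q ↥(chevE8.group F) := by
  obtain ⟨n, hp, hF⟩ := FiniteField.card F p
  have hsimple : IsSimpleGroup ↥(chevE8.group F) := (S1054.result chevE8 (by simp)).1
  have hcard := S1065.result (F := F) (q := p ^ (n : ℕ)) hF
  have hq0 : 0 < p ^ (n : ℕ) := pow_pos hp.pos _
  set r := p ^ (n : ℕ) with hr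
  have h2 : 2 ∣ Nat.card ↥(chevE8.group F) := by
    have h7 : Nat.card ↥(chevE8.group F) =
        (r ^ 120 * (r ^ 2 - 1)) * ((r ^ 12 - 1) * (r ^ 8 - 1) * (r ^ 14 - 1) * (r ^ 18 - 1) * (r ^ 20 - 1) *
          (r ^ 24 - 1) * (r ^ 30 - 1)) := by
      rw [hcard]; ring
    rw [h7]
    exact (prime_dvd_of Nat.prime_two hq0 (by norm_num) (by norm_num)).mul_right _
  refine core_of_card (by simp) n.pos hF (H254.isSolvable_out_of_sch (Schreier.Chev.sch_e8 F)) h2
    (c := 1) ?_ ?_ ?_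
  · rw [S2125.result p n hF, one_mul]
  · exact fun h' => hp.one_lt.ne' (Nat.dvd_one.1 h')
  · intro hq h
    exact absurd (Nat.dvd_one.1 h) hq.one_lt.ne'

theorem def_e7 : SFact p q ↥(chevE7.group F) := by
  obtain ⟨n, hp, hF⟩ := FiniteField.card F p
  have hsimple : IsSimpleGroup ↥(chevE7.group F) := (S1054.result chevE7 (by simp)).1
  have hcard := S1064.result (F := F) (q := p ^ (n : ℕ)) hF
  have hq0 : 0 < p ^ (n : ℕ) := pow_pos hp.pos _
  have h2 : 2 ∣ Nat.card ↥(chevE7.group F) := by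
    set r := p ^ (n : ℕ) with hr
    by_cases h2 : 2 ∣ r - 1
    · rw [Nat.gcd_eq_left h2] at hcard
      have h5 : ∀ k, 2 ∣ r ^ k - 1 := fun k => by
        have := Nat.sub_dvd_pow_sub_pow r 1 k
        rw [one_pow] at this
        exact h2.trans this
      obtain ⟨a, ha⟩ := h5 2
      rw [ha] at hcard
      have h6 : Nat.card ↥(chevE7.group F) =
          (r ^ 63 * (r ^ 12 - 1)) * (a * (r ^ 6 - 1) * (r ^ 8 - 1) * (r ^ 10 - 1) * (r ^ 14 - 1) * (r ^ 18 - 1)) := by
        refine Nat.eq_of_mul_eq_mul_left (show 0 < 2 by norm_num) ?_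
        rw [hcard]
        ring
      rw [h6]
      exact (prime_dvd_of Nat.prime_two hq0 (by norm_num) (by norm_num)).mul_right _
    · have h4 : Nat.gcd 2 (r - 1) = 1 := by
        rcases (Nat.dvd_prime Nat.prime_two).1 (Nat.gcd_dvd_left 2 (r - 1)) with h | h
        · exact h
        · exact absurd (h ▸ Nat.gcd_dvd_right 2 (r - 1)) h2
      rw [h4, one_mul] at hcard
      have h7 : Nat.card ↥(chevE7.group F) =
          (r ^ 63 * (r ^ 12 - 1)) * ((r ^ 2 - 1) * (r ^ 6 - 1) * (r ^ 8 - 1) * (r ^ 10 - 1) * (r ^ 14 - 1) * (r ^ 18 - 1)) := by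
        rw [hcard]; ring
      rw [h7]
      exact (prime_dvd_of Nat.prime_two hq0 (by norm_num) (by norm_num)).mul_right _
  refine core_of_card (by simp) n.pos hF (H254.isSolvable_out_of_sch (Schreier.Chev.sch_e7 F)) h2
    (c := Nat.gcd 2 (p ^ (n : ℕ) - 1)) ?_ ?_ ?_
  · rw [S2124.result p n hF]
  · intro h
    have h3 := (Nat.prime_dvd_prime_iff_eq hp Nat.prime_two).1 (h.trans (Nat.gcd_dvd_left _ _))
    have h4 := h.trans (Nat.gcd_dvd_right _ _)
    have h5 : p ∣ p ^ (n : ℕ) := dvd_pow_self _ n.ne_zero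
    have h6 : p ∣ 1 := by
      have h7 := Nat.dvd_sub h5 h4
      rwa [Nat.sub_sub_self hq0] at h7
    exact hp.one_lt.ne' (Nat.dvd_one.1 h6)
  · intro hq h
    rw [(Nat.prime_dvd_prime_iff_eq hq Nat.prime_two).1 (h.trans (Nat.gcd_dvd_left _ _))]; exact h2

theorem def_e6 (hp2 : p ≠ 2) : SFact p q ↥(chevE6.group F) := by
  obtain ⟨n, hp, hF⟩ := FiniteField.card F p
  have hsimple : IsSimpleGroup ↥(chevE6.group F) := (S1054.result chevE6 (by simp)).1
  have hcard := S1063.result (F := F) (q := p ^ (n : ℕ)) hF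
  have hq0 : 0 < p ^ (n : ℕ) := pow_pos hp.pos _
  have h23 : 2 ∣ Nat.card ↥(chevE6.group F) ∧ 3 ∣ Nat.card ↥(chevE6.group F) := by
    set r := p ^ (n : ℕ) with hr
    by_cases h3 : 3 ∣ r - 1
    · -- one factor `3` is cancelled
      rw [Nat.gcd_eq_left h3] at hcard
      have h5 : ∀ k, 3 ∣ r ^ k - 1 := fun k => by
        have := Nat.sub_dvd_pow_sub_pow r 1 k
        rw [one_pow] at this
        exact h3.trans this
      obtain ⟨a, ha⟩ := h5 5
      rw [ha] at hcard
      have h6 : Nat.card ↥(chevE6.group F) =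
          r ^ 36 * (r ^ 2 - 1) * a * (r ^ 6 - 1) * (r ^ 8 - 1) * (r ^ 9 - 1) * (r ^ 12 - 1) := by
        refine Nat.eq_of_mul_eq_mul_left (show 0 < 3 by norm_num) ?_
        rw [hcard]
        ring
      have h7 : Nat.card ↥(chevE6.group F) =
          (r ^ 36 * (r ^ 12 - 1)) * ((r ^ 2 - 1) * a * (r ^ 6 - 1) * (r ^ 8 - 1) * (r ^ 9 - 1)) := by
        rw [h6]; ring
      rw [h7]
      exact ⟨(prime_dvd_of Nat.prime_two hq0 (by norm_num) (by norm_num)).mul_right _,
        (prime_dvd_of Nat.prime_three hq0 (by norm_num) (by norm_num)).mul_right _⟩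
    · have h4 : Nat.gcd 3 (r - 1) = 1 := by
        rcases (Nat.dvd_prime Nat.prime_three).1 (Nat.gcd_dvd_left 3 (r - 1)) with h | h
        · exact h
        · exact absurd (h ▸ Nat.gcd_dvd_right 3 (r - 1)) h3
      rw [h4, one_mul] at hcard
      have h7 : Nat.card ↥(chevE6.group F) =
          (r ^ 36 * (r ^ 12 - 1)) * ((r ^ 2 - 1) * (r ^ 5 - 1) * (r ^ 6 - 1) * (r ^ 8 - 1) * (r ^ 9 - 1)) := by
        rw [hcard]; ring
      rw [h7]
      exact ⟨(prime_dvd_of Nat.prime_two hq0 (by norm_num) (by norm_num)).mul_right _,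
        (prime_dvd_of Nat.prime_three hq0 (by norm_num) (by norm_num)).mul_right _⟩
  refine core_of_card (by simp) n.pos hF (H254.isSolvable_out_of_sch (Schreier.Chev.sch_e6 F)) h23.1
    (c := 2 * Nat.gcd 3 (p ^ (n : ℕ) - 1)) ?_ ?_ ?_
  · rw [S2123.result p n hF]
  · intro h
    rcases hp.dvd_mul.1 h with h | h
    · exact hp2 ((Nat.prime_dvd_prime_iff_eq hp Nat.prime_two).1 h)
    · have h4 := h.trans (Nat.gcd_dvd_right _ _)
      have h5 : p ∣ p ^ (n : ℕ) := dvd_pow_self _ n.ne_zero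
      have h6 : p ∣ 1 := by
        have h7 := Nat.dvd_sub h5 h4
        rwa [Nat.sub_sub_self hq0] at h7
      exact hp.one_lt.ne' (Nat.dvd_one.1 h6)
  · intro hq h
    rcases hq.dvd_mul.1 h with h | h
    · rw [(Nat.prime_dvd_prime_iff_eq hq Nat.prime_two).1 h]; exact h23.1
    · rw [(Nat.prime_dvd_prime_iff_eq hq Nat.prime_three).1 (h.trans (Nat.gcd_dvd_left _ _))]; exact h23.2

end

/-- **the exceptional Chevalley groups in defining characteristic** -/
theorem row_chev_def {p q : ℕ} {G : Type u} [Group G] [Finite G]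
    (hF4 : ∀ (F : Type) [Field F] [Fintype F] [CharP F 2], p = 2 → SFact p q ↥(chevF4.group F))
    (hE6 : ∀ (F : Type) [Field F] [Fintype F] [CharP F 2], p = 2 → SFact p q ↥(chevE6.group F))
    (hG : Cfsg.IsExceptionalChevChar p G) : SFact p q G := by
  intro hp
  have : Fact p.Prime := ⟨hp⟩
  revert hp
  obtain ⟨F, _, _, hC, ⟨h3, ⟨e⟩⟩ | ⟨⟨e⟩⟩ | ⟨⟨e⟩⟩ | ⟨⟨e⟩⟩ | ⟨⟨e⟩⟩⟩ := hG
  · exact Cfsg.Agent.H55.PQ.Red.sfact_congr e (def_g2 h3)
  · by_cases h2 : p = 2
    · subst h2
      exact Cfsg.Agent.H55.PQ.Red.sfact_congr e (hF4 F rfl)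
    · exact Cfsg.Agent.H55.PQ.Red.sfact_congr e (def_f4 h2)
  · by_cases h2 : p = 2
    · subst h2
      exact Cfsg.Agent.H55.PQ.Red.sfact_congr e (hE6 F rfl)
    · exact Cfsg.Agent.H55.PQ.Red.sfact_congr e (def_e6 h2)
  · exact Cfsg.Agent.H55.PQ.Red.sfact_congr e def_e7
  · exact Cfsg.Agent.H55.PQ.Red.sfact_congr e def_e8

end Cfsg.Agent.H59.PQ.ChevRow
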